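import Groth.Agent.Lib.RpushPerf25.Main
import Groth.Agent.Lib.OX.LocalTensor
import Groth.Agent.Lib.TensorPerf20.FlatKernel
import Groth.Agent.Lib.CohSS9.Basic
import Groth.Agent.Lib.Euler.Coh

/-!
# A perfect complex tensored with a module flat over the base
-/

set_option autoImplicit false
set_option maxHeartbeats 2000000
set_option backward.isDefEq.respectTransparency false
universe u

open CategoryTheory CategoryTheory.Limits AlgebraicGeometry HomologicalComplex MonoidalCategory

attribute [local instance] HasDerivedCategory.standard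

namespace GrothLib.RpushPerf25

open GrothLib.OX GrothLib.RelAmp22

variable {X S : Scheme.{u}} (f : X ⟶ S)

/-- A flat module tensored with a module flat over the base ring is flat over the base ring. -/
theorem flat_tensor_over {R A : Type u} [CommRing R] [CommRing A] [Algebra R A] (E G : Type u) [AddCommGroup E]
    [Module A E] [AddCommGroup G] [Module A G] [Module R G] [IsScalarTower R A G]
    [Module.Flat A E] [Module.Flat R G] [Module R E] [IsScalarTower R A E] :
    Module.Flat R (TensorProduct A E G) := by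
  rw [Module.Flat.iff_lTensor_preserves_injective_linearMap]
  intro N N' _ _ _ _ g hg
  let g' : TensorProduct R G N →ₗ[A] TensorProduct R G N' := TensorProduct.AlgebraTensorModule.lTensor A G g
  have h1 : Function.Injective g' := Module.Flat.lTensor_preserves_injective_linearMap g hg
  have h2 : Function.Injective (g'.lTensor E) := Module.Flat.lTensor_preserves_injective_linearMap g' h1
  let e := fun M [AddCommGroup M] [Module R M] =>
    TensorProduct.AlgebraTensorModule.assoc R A A E G M
  have h3 : ∀ z, e N' (g.lTensor (TensorProduct A E G) z) = g'.lTensor E (e N z) := by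
    intro z
    induction z using TensorProduct.induction_on with
    | zero => simp only [map_zero]
    | add a b ha hb => simp only [map_add, ha, hb]
    | tmul w n =>
      induction w using TensorProduct.induction_on with
      | zero => simp only [TensorProduct.zero_tmul, map_zero]
      | add a b ha hb => simp only [TensorProduct.add_tmul, map_add, ha, hb]
      | tmul a b => rfl
  intro x y hxy
  exact (e N).injective (h2 ((h3 x).symm.trans ((congrArg (e N') hxy).trans (h3 y))))

/-- A flat module tensored with a module flat over the base is flat over the base. -/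
theorem flatOverAt_tensor {M N : X.Modules} (hM : FlatMod.IsFlat M) (hN : FlatMod.IsFlatOver f N) (x : X) :
    FlatMod.IsFlatOverAt f (((DCoh.tensorBi (X := X)).obj M).obj N) x := by
  refine (flatOver_iff_relStalk f _ x).2 (flat_of_modIso
    ((ModuleCat.restrictScalars (f.stalkMap x).hom).mapIso (stalkTensorBiIso x M N)).symm ?_)
  let R := S.presheaf.stalk (f x)
  let A := X.presheaf.stalk x
  letI : Algebra R A := (f.stalkMap x).hom.toAlgebra
  letI : Module R ((stalk x).obj N) := Module.compHom _ (algebraMap R A)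
  letI : Module R ((stalk x).obj M) := Module.compHom _ (algebraMap R A)
  haveI : IsScalarTower R A ((stalk x).obj N) := IsScalarTower.of_algebraMap_smul fun _ _ => rfl
  haveI : IsScalarTower R A ((stalk x).obj M) := IsScalarTower.of_algebraMap_smul fun _ _ => rfl
  haveI : Module.Flat A ((stalk x).obj M) := (GrothLib.OX.flat_iff _).1 hM x
  haveI : Module.Flat R ((stalk x).obj N) := (flatOver_iff_relStalk f N x).1 (hN x)
  have h := flat_tensor_over (R := R) (A := A) ((stalk x).obj M) ((stalk x).obj N)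
  let e : TensorProduct A ((stalk x).obj M) ((stalk x).obj N) ≃ₗ[R]
      ((ModuleCat.restrictScalars (f.stalkMap x).hom).obj
        (((stalk x).obj M ⊗ (stalk x).obj N : ModuleCat A))) :=
    { toFun := fun z => z
      invFun := fun z => z
      left_inv := fun _ => rfl
      right_inv := fun _ => rfl
      map_add' := fun _ _ => rfl
      map_smul' := fun r z => (algebraMap_smul A r z).symm }
  exact Module.Flat.of_linearEquiv e.symm

variable (G : X.Modules) {P : CochainComplex X.Modules ℤ}

/-- The local form of a perfect complex tensored with a module. -/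
theorem exists_local (hP : DCoh.IsKFlat P) (hE : DCoh.IsPerfect (DerivedCategory.Q.obj P)) (x : X) :
    ∃ (V : X.Opens) (E : CochainComplex (V : Scheme.{u}).Modules ℤ), x ∈ V ∧ DCoh.IsStrictlyPerfect E ∧
      Nonempty ((resD V.ι).obj (DerivedCategory.Q.obj ((tensorModCx G).obj P)) ≅
        DerivedCategory.Q.obj ((tensorModCx ((Scheme.Modules.restrictFunctor V.ι).obj G)).obj E)) := by
  obtain ⟨V, E, hx, hEs, ⟨e⟩⟩ := (isPerfect_iff_rep (Iso.refl _)).1 hE x
  refine ⟨V, E, hx, hEs, ?_⟩
  let j := V.ι
  let Q := flatRes G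
  have hQ := isKFlat_flatRes G
  have hq := quasiIso_flatResMap G
  have : QuasiIso (((DCoh.tensorCx (X := X)).obj P).map (flatResMap G)) :=
    quasiIso_tensor_map_of_isKFlat (flatResMap G) P hP
  let e₁ : DerivedCategory.Q.obj ((tensorModCx G).obj P) ≅
      DerivedCategory.Q.obj (((DCoh.tensorCx (X := X)).obj P).obj Q) :=
    DerivedCategory.Q.mapIso (singleIso P G) ≪≫
      (asIso (DerivedCategory.Q.map (((DCoh.tensorCx (X := X)).obj P).map (flatResMap G)))).symm
  obtain ⟨e₂⟩ := nonempty_iso_tensorCx (isKFlat_resCx j hP) (isKFlat_of_strictlyPerfect hEs)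
    (isKFlat_resCx j hQ) (isKFlat_resCx j hQ) e (Iso.refl _)
  let G' := (Scheme.Modules.restrictFunctor j).obj G
  let φ : (resCx j).obj Q ⟶ (single _ (ComplexShape.up ℤ) 0).obj G' :=
    (resCx j).map (flatResMap G) ≫
      ((singleMapHomologicalComplex (Scheme.Modules.restrictFunctor j) (ComplexShape.up ℤ) 0).app G).hom
  have : QuasiIso ((resCx j).map (flatResMap G)) := inferInstance
  have : QuasiIso φ := quasiIso_comp _ _
  have : QuasiIso (((DCoh.tensorCx (X := (V : Scheme.{u}))).obj E).map φ) :=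
    quasiIso_tensor_map_of_isKFlat φ E (isKFlat_of_strictlyPerfect hEs)
  exact ⟨(resD j).mapIso e₁ ≪≫ (resDFac j).app _ ≪≫ DerivedCategory.Q.mapIso (resTensorCxIso j P Q) ≪≫ e₂ ≪≫
    asIso (DerivedCategory.Q.map (((DCoh.tensorCx (X := (V : Scheme.{u}))).obj E).map φ)) ≪≫
      DerivedCategory.Q.mapIso (singleIso E G').symm⟩

theorem flatOver_restrict (hG : FlatMod.IsFlatOver f G) (V : X.Opens) :
    FlatMod.IsFlatOver (V.ι ≫ f) ((Scheme.Modules.restrictFunctor V.ι).obj G) := fun y => by
  obtain ⟨e⟩ := nonempty_relStalkRes f V.ι y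
  exact (flatOver_iff_relStalk _ _ y).2 (flat_of_modIso (e.app G).symm ((flatOver_iff_relStalk f G (V.ι y)).1 (hG _)))

/-- `E ⊗ G` has tor amplitude over the base, locally. -/
theorem exists_amp (hP : DCoh.IsKFlat P) (hE : DCoh.IsPerfect (DerivedCategory.Q.obj P))
    (hG : FlatMod.IsFlatOver f G) (x : X) :
    ∃ (V : X.Opens) (a b : ℤ), x ∈ V ∧ ∀ y ∈ V, AmpAt f a b (DerivedCategory.Q.obj ((tensorModCx G).obj P)) y := by
  obtain ⟨V, E, hx, ⟨⟨a, b, hab⟩, hEf⟩, ⟨e⟩⟩ := exists_local G hP hE x
  refine ⟨V, a, b, hx, fun y hy => ?_⟩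
  have h : DCoh.HasRelFlatAmplitudeIn (V.ι ≫ f) a b
      ((resD V.ι).obj (DerivedCategory.Q.obj ((tensorModCx G).obj P))) :=
    ⟨_, fun i hi => ((DCoh.tensorBi (X := (V : Scheme.{u}))).flip.obj _).map_isZero (hab i hi),
      fun i z => flatOverAt_tensor (V.ι ≫ f) (flat_of_isFinLocFree (hEf i)) (flatOver_restrict f G hG V) z, ⟨e.symm⟩⟩
  exact (ampAt_resD_iff f V.ι _ ⟨y, hy⟩).1 (ampAt_of_relFlat (V.ι ≫ f) h ⟨y, hy⟩)

theorem isCoh_HD_local [IsLocallyNoetherian X] (hP : DCoh.IsKFlat P) (hE : DCoh.IsPerfect (DerivedCategory.Q.obj P))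
    (hG : Coh.IsCoh G) (i : ℤ) : Coh.IsCoh (DCoh.HD (DerivedCategory.Q.obj ((tensorModCx G).obj P)) i) :=
  Euler.isCoh_of_restrict fun x => by
    obtain ⟨V, E, hx, ⟨-, hEf⟩, ⟨e⟩⟩ := exists_local G hP hE x
    refine ⟨V, hx, ?_⟩
    have : IsLocallyNoetherian (V : Scheme.{u}) := LocallyOfFiniteType.isLocallyNoetherian V.ι
    let C := (tensorModCx ((Scheme.Modules.restrictFunctor V.ι).obj G)).obj E
    have hC : ∀ k, Coh.IsCoh (C.X k) := fun k =>
      TensorPerf20.isCoh_tensor (Euler.isCoh_of_isFinLocFree (hEf k)) (Cohom.isCoh_restrict _ hG V.ι)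
    haveI : (C.sc i).X₁.IsQuasicoherent := (hC _).1
    haveI : (C.sc i).X₃.IsQuasicoherent := (hC _).1
    exact QCoh.isCoh_of_iso ((hdIso C i).symm ≪≫ (DerivedCategory.homologyFunctor _ i).mapIso e.symm ≪≫
      HDResIso V.ι _ i) (CohSS9.isCoh_homology (C.sc i) (hC i))

/-- `E ⊗ G` vanishes outside the support of `G`. -/
theorem isZero_relStalk_tensor {x : X} (hx : x ∉ CohB1.support G) (i : ℤ) :
    IsZero ((stalk x).obj (((tensorModCx G).obj P).X i)) := by
  have h : Subsingleton ((stalk x).obj G) := not_not.1 hx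
  exact IsZero.of_iso ((tensorLeft _).map_isZero (ModuleCat.isZero_iff_subsingleton.2 h))
    (stalkTensorBiIso x (P.X i) G)

/-- Direct images of `E ⊗^L G` are perfect. -/
theorem isPerfect_Rpush_ltensor [IsNoetherian S] [LocallyOfFiniteType f] [DCoh.HasRpush f] [DCoh.HasLTensorMod G]
    {E : DCoh.D X} (hE : DCoh.IsPerfect E) (hG : Coh.IsCoh G) (hflat : FlatMod.IsFlatOver f G)
    (hsupp : ClSub.IsProperOver f (CohB1.support G)) :
    DCoh.IsPerfect ((DCoh.Rpush f).obj ((DCoh.LTensorMod G).obj E)) := by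
  classical
  haveI : IsLocallyNoetherian X := LocallyOfFiniteType.isLocallyNoetherian f
  obtain ⟨P, hP, ⟨e⟩⟩ := exists_kflat_rep E
  obtain ⟨v⟩ := ltensor_value G P hP
  have hP' : DCoh.IsPerfect (DerivedCategory.Q.obj P) := isPerfect_of_iso hE e.symm
  let T := (tensorModCx G).obj P
  refine isPerfect_of_iso ?_ ((DCoh.Rpush f).mapIso (v.symm ≪≫ (DCoh.LTensorMod G).mapIso e))
  choose V a b hx hamp using exists_amp f G hP hP' hflat
  obtain ⟨s, hs⟩ := (isCompact_of_isProperOver f hsupp).elim_finite_subcover (fun x => (V x : Set X))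
    (fun x => (V x).2) (fun x _ => Set.mem_iUnion.2 ⟨x, hx x⟩)
  obtain ⟨A, hA⟩ := (s.image a).bddBelow
  obtain ⟨B, hB⟩ := (s.image b).bddAbove
  have hamp' : ∀ y, AmpAt f A B (DerivedCategory.Q.obj T) y := fun y => by
    by_cases hy : y ∈ CohB1.support G
    · obtain ⟨x, hxs, hyx⟩ := Set.mem_iUnion₂.1 (hs hy)
      exact ampAt_mono f (hA (Finset.mem_coe.2 (Finset.mem_image_of_mem a hxs)))
        (hB (Finset.mem_coe.2 (Finset.mem_image_of_mem b hxs))) (hamp x y hyx)
    · have hz : ∀ i, IsZero (((relStalkCx f y).obj T).X i) := fun i =>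
        (ModuleCat.restrictScalars (f.stalkMap y).hom).map_isZero (isZero_relStalk_tensor G hy i)
      refine (ampAt_Q_iff f T y).2 ⟨(relStalkCx f y).obj T, fun i _ => hz i, fun i => ?_, ⟨Iso.refl _⟩⟩
      have := ModuleCat.isZero_iff_subsingleton.1 (hz i)
      infer_instance
  have : (DerivedCategory.Q.obj T).IsGE A := (DerivedCategory.isGE_iff _ _).2 fun i hi =>
    ((exactAt_iff_isZero_homology _ _).1 (exactAt_of_amp f hamp' i (Or.inl hi))).of_iso (hdIso T i)
  have : (DerivedCategory.Q.obj T).IsLE B := (DerivedCategory.isLE_iff _ _).2 fun i hi =>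
    ((exactAt_iff_isZero_homology _ _).1 (exactAt_of_amp f hamp' i (Or.inr hi))).of_iso (hdIso T i)
  have hc : DCoh.IsCohD (DerivedCategory.Q.obj T) := isCoh_HD_local G hP hP' hG
  refine isPerfect_Rpush f _ A B hc (fun i => ProperOver.IsProperOver.subset f hsupp
    (QCoh.isClosed_support_of_isCoh (hc i)) fun y hy => ?_) hamp'
  by_contra hyG
  refine hy ?_
  have h1 : IsZero (((T.sc i).map (stalk y)).homology) :=
    (exactAt_iff_isZero_homology _ _).1 (ExactAt.of_isZero (K := ((stalk y).mapHomologicalComplex _).obj T)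
      (isZero_relStalk_tensor G hyG i))
  exact (ModuleCat.isZero_iff_subsingleton.1
    ((h1.of_iso ((T.sc i).mapHomologyIso (stalk y)).symm).of_iso ((stalk y).mapIso (hdIso T i))) :)

end GrothLib.RpushPerf25
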