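import Groth.Agent.S1118
import Groth.Agent.Lib.OX.FlatRes
import Groth.Agent.Lib.OX.LTensorCx
import Groth.Agent.Lib.OX.RpushQCoh
import Groth.Agent.Lib.OX.QCohTensor
import Groth.Agent.Lib.OX.QCohPull
import Groth.Agent.Lib.OX.PullbackKFlat
import Groth.Agent.Lib.KSix19.StalkAmp
import Groth.Agent.Lib.RelAmp22.Stalk

/-!
# Relative tor amplitude bounds `E ⊗^L Lf^* F`
-/

set_option autoImplicit false
set_option maxHeartbeats 1000000
set_option backward.isDefEq.respectTransparency false
universe u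

open CategoryTheory CategoryTheory.Limits AlgebraicGeometry HomologicalComplex

attribute [local instance] HasDerivedCategory.standard

namespace GrothLib.RpushPerf25

open GrothLib.OX GrothLib.RelAmp22

variable {X S : Scheme.{u}} (f : X ⟶ S)

/-- The two relative stalk functors agree. -/
noncomputable def stalkOverIso (x : X) : DerSch.stalkOver f x ≅ relStalk f x :=
  NatIso.ofComponents
    (fun M => (ModuleCat.restrictScalars (f.stalkMap x).hom).mapIso ((GrothLib.KSix19.stalkFunctorIso x).app M))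
    (fun {M N} g => ((ModuleCat.restrictScalars (f.stalkMap x).hom).map_comp _ _).symm.trans
      ((congrArg (ModuleCat.restrictScalars (f.stalkMap x).hom).map
        ((GrothLib.KSix19.stalkFunctorIso x).hom.naturality g)).trans
      ((ModuleCat.restrictScalars (f.stalkMap x).hom).map_comp _ _)))

theorem ampAt_of_torAmplitudeAt {F : CochainComplex X.Modules ℤ} {a b : ℤ} {x : X}
    (h : DerSch.HasTorAmplitudeAt f a b F x) : AmpAt f a b (DerivedCategory.Q.obj F) x := by
  obtain ⟨E, h1, h2, ⟨q⟩⟩ := h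
  exact (ampAt_Q_iff f F x).2 ⟨E, h1, h2, ⟨q ≪≫
    DerivedCategory.Q.mapIso ((NatIso.mapHomologicalComplex (stalkOverIso f x) (ComplexShape.up ℤ)).app F)⟩⟩

/-- The stalk of a skyscraper of a relative stalk. -/
noncomputable def stalkSkyResIso (x : X) : skyRes f x ⋙ stalk (f x) ≅ relStalk f x :=
  NatIso.ofComponents (fun M => asIso ((stalkSkyAdj (f x)).counit.app _))
    (fun {M N} g => (stalkSkyAdj (f x)).counit.naturality _)

/-- Relative tor amplitude bounds the tensor product with a pullback. -/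
theorem isZero_homology_tensor_pullback (P : CochainComplex X.Modules ℤ) {c : ℤ}
    (hP : ∀ j, c < j → IsZero (P.X j)) {a b : ℤ} (h : ∀ x, AmpAt f a b (DerivedCategory.Q.obj P) x)
    (F : S.Modules) (i : ℤ) (hi : i < a ∨ b < i) :
    IsZero (((((DCoh.tensorCx (X := X)).obj P).obj
      (((Scheme.Modules.pullback f).mapHomologicalComplex (ComplexShape.up ℤ)).obj (flatRes F))).homology i)) := by
  let Q := flatRes F
  let T := ((DCoh.tensorCx (X := X)).obj P).obj
    (((Scheme.Modules.pullback f).mapHomologicalComplex (ComplexShape.up ℤ)).obj Q)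
  refine (GrothLib.OX.isZero_iff _).2 fun x => ?_
  let K : CochainComplex S.Modules ℤ := ((skyRes f x).mapHomologicalComplex (ComplexShape.up ℤ)).obj P
  let T' := ((DCoh.tensorCx (X := S)).obj K).obj Q
  -- the skyscraper complex is bounded above
  have : (DCoh.toD S K).IsLE c := (DerivedCategory.isLE_iff _ _).2 fun j hj =>
    ((exactAt_iff_isZero_homology _ _).1 (ExactAt.of_isZero ((skyRes f x).map_isZero (hP j hj)))).of_iso
      ((DerivedCategory.homologyFunctorFactors _ j).app K)
  obtain ⟨R, d, hR, hRf, ⟨e⟩⟩ := GrothLib.KSix19.exists_flat_rep K c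
  have hRK := isKFlat_of_bounded_above R d hR hRf
  have hQ := isKFlat_flatRes F
  -- compare in the derived category
  have := hasLTensorCx Q
  obtain ⟨v⟩ := ltensorCx_value_of_isKFlat Q hQ K
  obtain ⟨w⟩ := ltensorCx_value Q R hRK
  have := quasiIso_flatResMap F
  have : QuasiIso (((DCoh.tensorCx (X := S)).obj R).map (flatResMap F)) :=
    quasiIso_tensor_map_of_isKFlat (flatResMap F) R hRK
  let e' : DerivedCategory.Q.obj T' ≅ DerivedCategory.Q.obj ((tensorModCx F).obj R) :=
    v.symm ≪≫ (DCoh.LTensorCx Q).mapIso e.symm ≪≫ w ≪≫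
      asIso (DerivedCategory.Q.map (((DCoh.tensorCx (X := S)).obj R).map (flatResMap F))) ≪≫
        DerivedCategory.Q.mapIso (singleIso R F).symm
  -- the stalk over the base
  let y := f x
  have hc : DRing.VanishesAbove ((GrothLib.KSix19.stalkCx y).obj R) d := fun j hj => (stalk y).map_isZero (hR j hj)
  have hf : DRing.TermwiseFlat ((GrothLib.KSix19.stalkCx y).obj R) := fun j => (GrothLib.OX.flat_iff _).1 (hRf j) y
  obtain ⟨k⟩ := GrothLib.KSix19.nonempty_stalkCx_iso y e
  let l : (GrothLib.KSix19.stalkCx y).obj K ≅ (relStalkCx f x).obj P :=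
    HomologicalComplex.Hom.isoOfComponents (fun j => (stalkSkyResIso f x).app (P.X j))
      (fun j j' _ => ((stalkSkyResIso f x).hom.naturality (P.d j j')).symm)
  have hamp := GrothLib.KSix19.amp_of_iso (DerivedCategory.Q.mapIso l.symm ≪≫ k.symm) ((ampAt_Q_iff f P x).1 (h x))
  have ht := (GrothLib.DR.tExact_iff _ _ i).1
    ((GrothLib.DR.hasTorAmplitudeIn_iff hc hf a b).1 hamp ((stalk y).obj F) i hi)
  have hz : IsZero (((GrothLib.KSix19.stalkCx y).obj ((tensorModCx F).obj R)).homology i) :=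
    ((exactAt_iff_isZero_homology _ _).1 ht).of_iso
      ((homologyFunctor _ (ComplexShape.up ℤ) i).mapIso (GrothLib.KSix19.stalkTensorModIso y F R))
  have hz' : IsZero ((stalk y).obj (T'.homology i)) :=
    (hz.of_iso ((((tensorModCx F).obj R).sc i).mapHomologyIso (stalk y)).symm).of_iso
      ((stalk y).mapIso ((hdIso T' i).symm ≪≫ (DerivedCategory.homologyFunctor _ i).mapIso e' ≪≫ hdIso _ i))
  have hz'' : IsZero ((((stalkAb y).mapHomologicalComplex (ComplexShape.up ℤ)).obj T').homology i) :=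
    ((forget₂ _ Ab.{u}).map_isZero hz').of_iso ((T'.sc i).mapHomologyIso (stalkAb y))
  have hT : IsZero ((((stalkAb x).mapHomologicalComplex (ComplexShape.up ℤ)).obj T).homology i) :=
    hz''.of_iso ((homologyFunctor _ (ComplexShape.up ℤ) i).mapIso (stalkTotalIso f x P Q)).symm
  exact (hT.of_iso ((T.sc i).mapHomologyIso (stalkAb x)).symm :
    IsZero ((stalkAb x).obj (T.homology i))) |> fun hab => ModuleCat.isZero_iff_subsingleton.2
      (AddCommGrpCat.subsingleton_of_isZero hab)

/-- Derived tensor products of direct images with test modules live in a bounded range. -/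
theorem exists_bound_ltensor [QuasiCompact f] [QuasiSeparated f] [CompactSpace S] [DCoh.HasRpush f]
    (P : CochainComplex X.Modules ℤ) {c : ℤ} (hP : ∀ j, c < j → IsZero (P.X j))
    (hfl : ∀ j, FlatMod.IsFlat (P.X j)) (hq : DCoh.IsQCohD (DerivedCategory.Q.obj P)) {a b : ℤ}
    (h : ∀ x, AmpAt f a b (DerivedCategory.Q.obj P) x) :
    ∃ b' : ℤ, a ≤ b' ∧ ∀ (F : S.Modules), Coh.IsQCoh F → ∀ [DCoh.HasLTensorMod F] (i : ℤ),
      (i < a ∨ b' < i) →
        IsZero (DCoh.HD ((DCoh.LTensorMod F).obj ((DCoh.Rpush f).obj (DerivedCategory.Q.obj P))) i) := by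
  obtain ⟨N, hN⟩ := exists_bound_Rres f
  refine ⟨max a (b + N), le_max_left _ _, fun F hF _ i hi => ?_⟩
  obtain ⟨W, hW, ⟨eW⟩⟩ := exists_kflat_rep ((DCoh.Rpush f).obj (DerivedCategory.Q.obj P))
  obtain ⟨w⟩ := hd_ltensor F W hW eW i
  refine IsZero.of_iso ?_ w
  let Q := flatRes F
  have hQ := isKFlat_flatRes F
  have := quasiIso_flatResMap F
  have : QuasiIso (((DCoh.tensorCx (X := S)).obj W).map (flatResMap F)) :=
    quasiIso_tensor_map_of_isKFlat (flatResMap F) W hW
  have := hasLTensorCx Q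
  obtain ⟨v⟩ := ltensorCx_value_of_isKFlat Q hQ W
  let M := ((Scheme.Modules.pullback f).mapHomologicalComplex (ComplexShape.up ℤ)).obj Q
  have := hasLTensorCx M
  have := hasLpull f
  obtain ⟨lp⟩ := lpull_value f Q hQ
  have hQq : DCoh.IsQCohD (DCoh.toD S Q) := fun j =>
    isQCoh_of_iso ((DerivedCategory.homologyFunctor _ j).mapIso
      (asIso (DerivedCategory.Q.map (flatResMap F)) ≪≫
        ((DerivedCategory.singleFunctorIsoCompQ S.Modules 0).app F).symm)).symm
      (DerTrunc.cohIn_single (qcohP S) hF 0 j)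
  obtain ⟨p⟩ := Groth.Agent.S1118.result f (DerivedCategory.Q.obj P) hq Q hQq M ⟨lp.symm⟩
  obtain ⟨m⟩ := ltensorCx_value M P (isKFlat_of_bounded_above P c hP hfl)
  let A := DerivedCategory.Q.obj (((DCoh.tensorCx (X := X)).obj P).obj M)
  let tot : DerivedCategory.Q.obj ((tensorModCx F).obj W) ≅ (SiteDer.Rres (rmor f)).obj A :=
    DerivedCategory.Q.mapIso (singleIso W F) ≪≫
      (asIso (DerivedCategory.Q.map (((DCoh.tensorCx (X := S)).obj W).map (flatResMap F)))).symm ≪≫
      v.symm ≪≫ (DCoh.LTensorCx Q).mapIso eW ≪≫ p ≪≫ (DCoh.Rpush f).mapIso m ≪≫ (rpushIsoRres f).app A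
  refine IsZero.of_iso ?_ ((hdIso _ i).symm ≪≫ (DerivedCategory.homologyFunctor _ i).mapIso tot)
  have hA : ∀ j, (j < a ∨ b < j) → IsZero (DCoh.HD A j) := fun j hj =>
    (isZero_homology_tensor_pullback f P hP h F j hj).of_iso (hdIso _ j)
  have : A.IsGE a := (DerivedCategory.isGE_iff _ _).2 fun j hj => hA j (Or.inl hj)
  rcases hi with hi | hi
  · have := SiteDer.isGE_Rres (rmor f) A a
    exact DerivedCategory.isZero_of_isGE _ a i hi
  · have hAq : DCoh.IsQCohD A := fun j => isQCoh_of_iso (hdIso _ j).symm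
      (isQCoh_homology_tensorCx (isKFlat_of_bounded_above P c hP hfl) (isKFlat_pullback f hQ)
        (fun j => isQCoh_of_iso (hdIso P j) (hq j))
        (isQCoh_homology_pullCx f hQ fun j => isQCoh_of_iso (hdIso Q j) (hQq j)) j)
    have hle : (A⟦b⟧).IsLE 0 := (DerivedCategory.isLE_iff _ _).2 fun j hj =>
      (hA (b + j) (Or.inr (by omega))).of_iso (HDShiftIso A b j _ rfl)
    let G : DCoh.D X ⥤ DCoh.D S := GrothLib.KInj.res X.Modules ⋙ DCoh.pushKh f
    refine IsZero.of_iso (hN _ (isQCohD_shift hAq b) hle (i - b) (by omega)) ?_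
    exact (HDShiftIso (G.obj A) b (i - b) i (by omega)).symm ≪≫
      (DerivedCategory.homologyFunctor S.Modules (i - b)).mapIso ((G.commShiftIso b).app A).symm

end GrothLib.RpushPerf25
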