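import Groth.Agent.Lib.RpushPerf25.Bound
import Groth.Agent.Lib.RpushSupp20.Main
import Groth.Agent.Lib.OX.LiftSupport
import Groth.Agent.Lib.OX.RRComp
import Groth.Agent.Lib.OX.PerfectCriterion
import Groth.Agent.S1039
import Groth.Agent.S1073
import Groth.Agent.S1001

/-!
# Derived direct images of objects of finite tor amplitude over the base are perfect
-/

set_option autoImplicit false
set_option maxHeartbeats 4000000
set_option backward.isDefEq.respectTransparency false
universe u

open CategoryTheory CategoryTheory.Limits AlgebraicGeometry HomologicalComplex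

attribute [local instance] HasDerivedCategory.standard

namespace GrothLib.RpushPerf25

open GrothLib.OX GrothLib.RelAmp22

variable {X S : Scheme.{u}}

/-- The quasi-compact case, given coherence and boundedness. -/
theorem isPerfect_Rpush_of_qc [IsNoetherian S] (f : X ⟶ S) [QuasiCompact f] [QuasiSeparated f] [DCoh.HasRpush f]
    (E : DCoh.D X) (d : ℤ) [E.IsLE d] (hq : DCoh.IsQCohD E) {a b : ℤ} (h : ∀ x, AmpAt f a b E x)
    (hcoh : DCoh.IsCohD ((DCoh.Rpush f).obj E)) (hle : ∃ b', ((DCoh.Rpush f).obj E).IsLE b') :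
    DCoh.IsPerfect ((DCoh.Rpush f).obj E) := by
  let eF := DerivedCategory.Q.objObjPreimageIso E
  have : (DCoh.toD X (DerivedCategory.Q.objPreimage E)).IsLE d :=
    DerivedCategory.TStructure.t.isLE_of_iso eF.symm d
  obtain ⟨P, c, hP, hfl, ⟨e⟩⟩ := GrothLib.KSix19.exists_flat_rep (DerivedCategory.Q.objPreimage E) d
  let eP : DerivedCategory.Q.obj P ≅ E := e ≪≫ eF
  obtain ⟨b', hab, hb'⟩ := exists_bound_ltensor f P hP hfl
    (fun i => isQCoh_of_iso ((DerivedCategory.homologyFunctor _ i).mapIso eP.symm) (hq i))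
    (fun x => ampAt_of_iso f eP.symm (h x))
  let K := (DCoh.Rpush f).obj E
  let eK : (DCoh.Rpush f).obj (DerivedCategory.Q.obj P) ≅ K := (DCoh.Rpush f).mapIso eP
  have ht : DCoh.HasTorAmplitudeIn a b' K :=
    (Groth.Agent.S1073.result S K (fun i => (hcoh i).1) a b' hab).2 fun F hF _ i hi =>
      (hb' F hF i hi).of_iso ((DerivedCategory.homologyFunctor _ i).mapIso ((DCoh.LTensorMod F).mapIso eK.symm))
  refine isPerfect_of_flatAmplitude (hasFlatAmplitudeIn_of_tor (fun G => hasLTensorMod G) hab ht) ?_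
  exact (Groth.Agent.S1039.result S K (fun i => (hcoh i).1) (a - 1)).2 ⟨fun i _ => hcoh i, hle⟩

theorem isCompact_of_isProperOver [CompactSpace S] (f : X ⟶ S) {Z : Set X} (h : ClSub.IsProperOver f Z) :
    IsCompact Z := by
  obtain ⟨hZ, hp⟩ := h
  have : CompactSpace (Scheme.IdealSheafData.vanishingIdeal ⟨Z, hZ⟩).subscheme :=
    QuasiCompact.compactSpace_of_compactSpace ((Scheme.IdealSheafData.vanishingIdeal ⟨Z, hZ⟩).subschemeι ≫ f)
  have e : Set.range (Scheme.IdealSheafData.vanishingIdeal ⟨Z, hZ⟩).subschemeι = Z :=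
    RedSub.range_subschemeι_vanishingIdeal ⟨Z, hZ⟩
  rw [← e]
  exact isCompact_range ((Scheme.IdealSheafData.vanishingIdeal ⟨Z, hZ⟩).subschemeι).continuous

/-- Direct images of bounded coherent objects of finite tor amplitude with support proper over the base. -/
theorem isPerfect_Rpush [IsNoetherian S] (f : X ⟶ S) [LocallyOfFiniteType f] [DCoh.HasRpush f]
    (E : DCoh.D X) (a₀ b₀ : ℤ) [E.IsGE a₀] [E.IsLE b₀] (hcoh : DCoh.IsCohD E)
    (hsupp : ∀ i : ℤ, ClSub.IsProperOver f (CohB1.support (DCoh.HD E i))) {a b : ℤ}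
    (h : ∀ x, AmpAt f a b E x) : DCoh.IsPerfect ((DCoh.Rpush f).obj E) := by
  classical
  haveI : IsLocallyNoetherian X := LocallyOfFiniteType.isLocallyNoetherian f
  obtain ⟨hc, -, hle⟩ := Groth.Agent.S1001.result f E a₀ b₀ hcoh hsupp
  -- the support
  let Z : Set X := ⋃ i : Set.Icc a₀ b₀, CohB1.support (DCoh.HD E i.1)
  have hZ := ProperOver.isProperOver_iUnion f (fun i : Set.Icc a₀ b₀ => CohB1.support (DCoh.HD E i.1))
    fun i => hsupp i.1
  have hsub : ∀ i, CohB1.support (DCoh.HD E i) ⊆ Z := fun i y hy => by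
    by_cases hi : i ∈ Set.Icc a₀ b₀
    · exact Set.mem_iUnion.2 ⟨⟨i, hi⟩, hy⟩
    · exfalso
      refine hy ?_
      have hz : IsZero (DCoh.HD E i) := by
        rcases not_and_or.1 hi with h' | h'
        · exact DerivedCategory.isZero_of_isGE E a₀ i (not_le.1 h')
        · exact DerivedCategory.isZero_of_isLE E b₀ i (not_le.1 h')
      exact AddCommGrpCat.subsingleton_of_isZero (((Scheme.Modules.toPresheaf X) ⋙
        TopCat.Presheaf.stalkFunctor Ab.{u} y).map_isZero hz)
  -- a quasi-compact neighbourhood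
  obtain ⟨s, hs⟩ := (isCompact_of_isProperOver f hZ).elim_finite_subcover
    (fun U : X.affineOpens => (U.1 : Set X)) (fun U => U.1.2) (fun x _ => by
      obtain ⟨U, hU, hx, -⟩ := exists_isAffineOpen_mem_and_subset (x := x) (U := ⊤) trivial
      exact Set.mem_iUnion.2 ⟨⟨U, hU⟩, hx⟩)
  let V : X.Opens := ⨆ U ∈ s, U.1
  have hV : IsCompact (V : Set X) := by
    rw [show (V : Set X) = ⋃ U ∈ s, (U.1 : Set X) by simp [V]]
    exact s.isCompact_biUnion fun U _ => U.2.isCompact
  let W : X.Opens := ⟨Zᶜ, hZ.1.isOpen_compl⟩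
  have hcov : ∀ x, x ∈ Set.range V.ι ∪ (W : Set X) := fun x => by
    by_cases hx : x ∈ Z
    · left
      rw [Scheme.Opens.range_ι]
      rw [show (V : Set X) = ⋃ U ∈ s, (U.1 : Set X) by simp [V]]
      exact hs hx
    · exact Or.inr hx
  have hW : IsZero ((resD W.ι).obj E) := (isZero_resD_iff_support _ E).2 fun i y hy => by
    rw [Scheme.Opens.range_ι]
    exact fun h' => h' (hsub i hy)
  have := isIso_unit_of_cover V.ι W hcov hW
  let E' := (resD V.ι).obj E
  let g := V.ι ≫ f
  have : CompactSpace (V : Scheme.{u}) := isCompact_iff_compactSpace.1 hV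
  have : IsLocallyNoetherian (V : Scheme.{u}) := LocallyOfFiniteType.isLocallyNoetherian V.ι
  have : IsNoetherian (V : Scheme.{u}) := {}
  have : QuasiSeparated g := QuasiSeparated.of_quasiSeparatedSpace g
  have : QuasiCompact g := inferInstance
  have : DCoh.HasRpush g := KInj.hasRightDerivedFunctor _
  let e : (DCoh.Rpush f).obj E ≅ (DCoh.Rpush g).obj E' :=
    (rpushIsoRres f).app E ≪≫ (RR f).mapIso (asIso ((resDAdj V.ι).unit.app E)) ≪≫
      (RRCompIso V.ι f).app E' ≪≫ ((rpushIsoRres g).app E').symm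
  have : E'.IsLE b₀ := DerTrunc.isLE_mapDerivedCategory _ E b₀
  refine isPerfect_of_iso (isPerfect_Rpush_of_qc g E' b₀ (isQCohD_resD V.ι fun i => (hcoh i).1) (a := a) (b := b)
    (fun y => (ampAt_resD_iff f V.ι E y).2 (h (V.ι y)))
    (fun i => QCoh.isCoh_of_iso ((DerivedCategory.homologyFunctor _ i).mapIso e) (hc i))
    (hle.imp fun b' hb =>
      haveI : DerivedCategory.TStructure.t.IsLE ((DCoh.Rpush f).obj E) b' := hb
      DerivedCategory.TStructure.t.isLE_of_iso e b')) e.symm

end GrothLib.RpushPerf25
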